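import Mathlib
import Cfsg.Agent.FastGrp
import Cfsg.Agent.Prune
set_option linter.all false

section
prune_inst 0x7f00000000000000000000000000000000000000000000000000000000000000000000000000000000000000000000000000000000000000000000000000000000000000000000000000000000000000003fffffffffffffffffffffffffffbeffbdffffffff

-- part: H847/IF/Abs
section
set_option linter.all false
open scoped Cfsg.Agent.FastGrp

/-!
# S5719 (involution fixity), large classical groups: the counting lemma ABS (helper847)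

`abs_index` : `X ≤ G` contains no element of `Z` (a conjugation invariant set of elements with square `1`), `Q` a group of odd
order, normalised by the image of `lam : L →* G`. If every subgroup `Y` of `L` with `lam Y ∩ Z = ∅` has index at
least `c`, then `|Q| c ≤ |Q ∩ X| |G : X|`.
-/

set_option autoImplicit false

namespace Cfsg.Agent.H847.IF

open Subgroup MulAction

/-- an element of square one which leaves a finite set of odd cardinality invariant fixes a point -/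
theorem exists_fixed {G Ω : Type*} [Group G] [MulAction G Ω] (S : Set Ω) (hS : S.Finite) (hodd : Odd S.ncard) (z : G)
    (hz : z * z = 1) (hzS : ∀ x ∈ S, z • x ∈ S) : ∃ x ∈ S, z • x = x := by
  classical
  have := hS.fintype
  have : Fact (Nat.Prime 2) := ⟨Nat.prime_two⟩
  let σ : Equiv.Perm S :=
    { toFun := fun x => ⟨z • x.1, hzS x.1 x.2⟩
      invFun := fun x => ⟨z • x.1, hzS x.1 x.2⟩
      left_inv := fun x => Subtype.ext (by show z • z • x.1 = x.1; rw [← mul_smul, hz, one_smul])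
      right_inv := fun x => Subtype.ext (by show z • z • x.1 = x.1; rw [← mul_smul, hz, one_smul]) }
  have hσ : σ ^ 2 ^ 1 = 1 := by
    rw [pow_one, pow_two]
    ext x
    show z • z • x.1 = x.1
    rw [← mul_smul, hz, one_smul]
  have hc : ¬ 2 ∣ Fintype.card S := by
    rw [← Nat.card_eq_fintype_card]
    intro h2
    have h3 : Nat.card S = S.ncard := rfl
    rw [h3] at h2
    exact (Nat.not_even_iff_odd.2 hodd) (even_iff_two_dvd.2 h2)
  obtain ⟨x, hx⟩ := Equiv.Perm.exists_fixed_point_of_prime hc hσ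
  exact ⟨x.1, x.2, congrArg Subtype.val hx⟩

/-- **(ABS)** -/
theorem abs_index {G L : Type*} [Group G] [Finite G] [Group L] [Finite L] (lam : L →* G) (Q X : Subgroup G)
    (hQ : Odd (Nat.card Q)) (hnorm : ∀ l : L, ∀ u ∈ Q, lam l * u * (lam l)⁻¹ ∈ Q) (Z : Set G)
    (hZ2 : ∀ z ∈ Z, z * z = 1) (hZc : ∀ g : G, ∀ z ∈ Z, g * z * g⁻¹ ∈ Z) (hX : ∀ z ∈ Z, z ∉ X) (c : ℕ)
    (hc : ∀ Y : Subgroup L, (∀ y ∈ Y, lam y ∉ Z) → c ≤ Y.index) :
    Nat.card Q * c ≤ Nat.card (X ⊓ Q : Subgroup G) * X.index := by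
  classical
  let x₀ : G ⧸ X := ((1 : G) : G ⧸ X)
  let S : Set (G ⧸ X) := orbit Q x₀
  have hSf : S.Finite := Set.toFinite _
  have hS : ∀ x, x ∈ S ↔ ∃ u ∈ Q, u • x₀ = x := by
    intro x
    constructor
    · rintro ⟨u, rfl⟩
      exact ⟨u.1, u.2, rfl⟩
    · rintro ⟨u, hu, rfl⟩
      exact ⟨⟨u, hu⟩, rfl⟩
  have hx₀ : x₀ ∈ S := (hS x₀).2 ⟨1, Q.one_mem, one_smul _ _⟩
  -- the size of the orbit
  have hcard : S.ncard * Nat.card (X ⊓ Q : Subgroup G) = Nat.card Q := by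
    have h1 : Nat.card (orbit Q x₀) * Nat.card (stabilizer Q x₀) = Nat.card Q := by
      rw [← Nat.card_prod]
      exact Nat.card_congr (orbitProdStabilizerEquivGroup Q x₀)
    have h2 : Nat.card (stabilizer Q x₀) = Nat.card (X ⊓ Q : Subgroup G) := by
      refine Nat.card_congr
        { toFun := fun u => ⟨u.1.1, ?_, u.1.2⟩
          invFun := fun u => ⟨⟨u.1, u.2.2⟩, ?_⟩
          left_inv := fun _ => rfl
          right_inv := fun _ => rfl }
      · have h3 : u.1.1 • x₀ = x₀ := u.2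
        have h4 : ((u.1.1 * 1 : G) : G ⧸ X) = ((1 : G) : G ⧸ X) := h3
        rw [mul_one, QuotientGroup.eq, mul_one] at h4
        exact (X.inv_mem_iff).1 h4
      · show u.1 • x₀ = x₀
        show ((u.1 * 1 : G) : G ⧸ X) = ((1 : G) : G ⧸ X)
        rw [mul_one, QuotientGroup.eq, mul_one]
        exact X.inv_mem u.2.1
    rw [← h2]
    exact h1
  have hodd : Odd S.ncard := by
    rw [← hcard] at hQ
    exact (Nat.odd_mul.1 hQ).1
  -- translates of the orbit
  have htr : ∀ l : L, ∀ x ∈ S, lam l • x ∈ S ↔ lam l • x₀ ∈ S := by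
    intro l x hx
    obtain ⟨u, hu, rfl⟩ := (hS x).1 hx
    have h1 : lam l • u • x₀ = (lam l * u * (lam l)⁻¹) • lam l • x₀ := by
      rw [← mul_smul, ← mul_smul, inv_mul_cancel_right]
    rw [h1]
    constructor
    · intro h2
      obtain ⟨v, hv, h3⟩ := (hS _).1 h2
      refine (hS _).2 ⟨(lam l * u * (lam l)⁻¹)⁻¹ * v, Q.mul_mem (Q.inv_mem (hnorm l u hu)) hv, ?_⟩
      rw [mul_smul, h3, ← mul_smul, inv_mul_cancel, one_smul]
    · intro h2
      obtain ⟨v, hv, h3⟩ := (hS _).1 h2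
      refine (hS _).2 ⟨(lam l * u * (lam l)⁻¹) * v, Q.mul_mem (hnorm l u hu) hv, ?_⟩
      rw [mul_smul, h3]
  let Y : Subgroup L :=
    { carrier := {l | lam l • x₀ ∈ S}
      one_mem' := by
        show lam 1 • x₀ ∈ S
        rw [map_one, one_smul]
        exact hx₀
      mul_mem' := by
        intro a b ha hb
        show lam (a * b) • x₀ ∈ S
        rw [map_mul, mul_smul]
        exact (htr a _ hb).2 ha
      inv_mem' := by
        intro a ha
        show lam a⁻¹ • x₀ ∈ S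
        have h1 : lam a⁻¹ • lam a • x₀ ∈ S := by
          rw [← mul_smul, ← map_mul, inv_mul_cancel, map_one, one_smul]
          exact hx₀
        exact (htr a⁻¹ _ ha).1 h1 }
  have hY : c ≤ Y.index := by
    refine hc Y ?_
    intro y hy hz
    obtain ⟨x, hx, hzx⟩ := exists_fixed S hSf hodd (lam y) (hZ2 _ hz) (fun x hx => (htr y x hx).2 hy)
    obtain ⟨u, hu, rfl⟩ := (hS x).1 hx
    have h1 : ((lam y * (u * 1) : G) : G ⧸ X) = ((u * 1 : G) : G ⧸ X) := hzx
    rw [mul_one, QuotientGroup.eq] at h1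
    have h2 : u⁻¹ * (lam y)⁻¹ * u ∈ X := by
      rwa [mul_inv_rev] at h1
    have h3 := X.inv_mem h2
    have h4 : (u⁻¹ * (lam y)⁻¹ * u)⁻¹ = u⁻¹ * lam y * u⁻¹⁻¹ := by group
    rw [h4] at h3
    exact hX _ (hZc u⁻¹ _ hz) h3
  -- the translates are disjoint
  have hinj : Function.Injective (fun p : (L ⧸ Y) × S => lam p.1.out • (p.2 : G ⧸ X)) := by
    rintro ⟨a, ⟨x, hx⟩⟩ ⟨b, ⟨x', hx'⟩⟩ hab
    have h1 : lam a.out • x = lam b.out • x' := hab
    have h2 : lam (b.out⁻¹ * a.out) • x = x' := by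
      rw [map_mul, mul_smul, h1, ← mul_smul, ← map_mul, inv_mul_cancel, map_one, one_smul]
    have h3 : b.out⁻¹ * a.out ∈ Y := by
      show lam (b.out⁻¹ * a.out) • x₀ ∈ S
      rw [← htr _ x hx, h2]
      exact hx'
    have h4 : a = b := by
      rw [← QuotientGroup.out_eq' a, ← QuotientGroup.out_eq' b]
      exact (QuotientGroup.eq.2 h3).symm
    subst h4
    have h5 : x = x' := by rw [← h2, inv_mul_cancel, map_one, one_smul]
    subst h5
    rfl
  have h1 : Y.index * S.ncard ≤ X.index := by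
    have h2 := Nat.card_le_card_of_injective _ hinj
    rw [Nat.card_prod] at h2
    exact h2
  calc Nat.card Q * c = Nat.card (X ⊓ Q : Subgroup G) * (c * S.ncard) := by rw [← hcard]; ring
    _ ≤ Nat.card (X ⊓ Q : Subgroup G) * (Y.index * S.ncard) :=
      Nat.mul_le_mul_left _ (Nat.mul_le_mul_right _ hY)
    _ ≤ _ := Nat.mul_le_mul_left _ h1

end Cfsg.Agent.H847.IF
end

-- part: H203/IF/Heis
section
set_option linter.all false
open scoped Cfsg.Agent.FastGrp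

/-!
# S5719: Heisenberg subgroups of groups generated by root subgroups (helper203)

* `Heis Z X S o` : `Z` central, `[X i, X j] = 1` for `j ≠ o i`, `b ↦ ⁅a, b⁆` maps `X (o i)` onto `Z` for `1 ≠ a ∈ X i`;
* `Heis.rel` : `Q = ⟨Z, X i⟩`; `¬ Z ≤ A → |Q| |Z| ≤ |Q : Q ∩ A|² |A ∩ Z|²`;
* `Heis.card_ge` : `|Z| ∏ |X i| ≤ |Q|`;
* `Phi L Zs c` : the subgroups of `L` without elements of `Zs` have index at least `c` in `L`;
* `Phi.step` : the induction.
-/

set_option autoImplicit false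
set_option linter.unusedSectionVars false

namespace Cfsg.Agent.H203.IF

open Subgroup
open scoped commutatorElement

/-- A Heisenberg datum. -/
structure Heis {T : Type*} [Group T] {ι : Type*} (Z : Subgroup T) (X : ι → Subgroup T) (S : Finset ι) (o : ι → ι) :
    Prop where
  mem : ∀ i ∈ S, o i ∈ S
  oo : ∀ i ∈ S, o (o i) = i
  zz : ∀ z ∈ Z, ∀ w ∈ Z, z * w = w * z
  zx : ∀ z ∈ Z, ∀ i ∈ S, ∀ a ∈ X i, z * a = a * z
  comm : ∀ i ∈ S, ∀ j ∈ S, j ≠ o i → ∀ a ∈ X i, ∀ b ∈ X j, a * b = b * a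
  pair : ∀ i ∈ S, ∀ a ∈ X i, ∀ b ∈ X (o i), ⁅a, b⁆ ∈ Z
  surj : ∀ i ∈ S, ∀ a ∈ X i, a ≠ 1 → ∀ z ∈ Z, ∃ b ∈ X (o i), ⁅a, b⁆ = z

/-- the generated subgroup -/
def QQ {T : Type*} [Group T] {ι : Type*} (Z : Subgroup T) (X : ι → Subgroup T) (S : Finset ι) : Subgroup T :=
  closure {g | g ∈ Z ∨ ∃ i ∈ S, g ∈ X i}

theorem com_eq_one {T : Type*} [Group T] {a b : T} (h : a * b = b * a) : ⁅a, b⁆ = 1 := by
  rw [commutatorElement_def, h, mul_inv_cancel_right, mul_inv_cancel]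

theorem card_rel {G : Type*} [Group G] {H K : Subgroup G} (h : H ≤ K) :
    Nat.card H * H.relIndex K = Nat.card K := by
  rw [← Nat.card_congr (subgroupOfEquivOfLe h).toEquiv]
  exact (H.subgroupOf K).card_mul_index

theorem rel_ne {G : Type*} [Group G] [Finite G] (H K : Subgroup G) : H.relIndex K ≠ 0 :=
  index_ne_zero_of_finite

/-- a character of a finite commutative group which kills `D` but not `z` -/
theorem exists_char {C : Type*} [CommGroup C] [Finite C] (D : Subgroup C) {z : C} (hz : z ∉ D) :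
    ∃ θ : C →* ℂˣ, θ z ≠ 1 ∧ ∀ d ∈ D, θ d = 1 := by
  have h1 : (QuotientGroup.mk' D z) ≠ 1 := by
    intro h
    exact hz ((QuotientGroup.eq_one_iff z).1 h)
  obtain ⟨φ, hφ⟩ := CommGroup.exists_apply_ne_one_of_hasEnoughRootsOfUnity (C ⧸ D) ℂ h1
  refine ⟨φ.comp (QuotientGroup.mk' D), hφ, fun d hd => ?_⟩
  have h2 : QuotientGroup.mk' D d = 1 := (QuotientGroup.eq_one_iff d).2 hd
  rw [MonoidHom.comp_apply, h2, map_one]

/-- isotropic subgroups for a pairing -/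
theorem iso_abs {G : Type*} [Group G] [Finite G] (Z B : Subgroup G) (P : G → G → ℂˣ)
    (m1 : ∀ g g' h, P (g * g') h = P g h * P g' h) (m2 : ∀ g h h', P g (h * h') = P g h * P g h')
    (hr : ∀ b, (∀ g, P g b = 1) → b ∈ Z) (z1 : ∀ z ∈ Z, ∀ g, P g z = 1) (z2 : ∀ z ∈ Z, ∀ g, P z g = 1)
    (bb : ∀ b ∈ B, ∀ b' ∈ B, P b b' = 1) :
    Nat.card B ^ 2 * Nat.card Z ≤ Nat.card (B ⊓ Z : Subgroup G) ^ 2 * Nat.card G := by
  classical
  have : Fintype G := Fintype.ofFinite G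
  have hP1 : ∀ h, P 1 h = 1 := fun h => by
    have h1 := m1 1 1 h
    rw [mul_one] at h1
    exact mul_eq_left.1 h1.symm
  have hP2 : ∀ g, P g 1 = 1 := fun g => by
    have h1 := m2 g 1 1
    rw [mul_one] at h1
    exact mul_eq_left.1 h1.symm
  let L : G → G →* ℂ := fun h =>
    { toFun := fun g => (P g h : ℂ)
      map_one' := by rw [hP1]; rfl
      map_mul' := fun a b => by rw [m1]; rfl }
  let R : G → B →* ℂ := fun g =>
    { toFun := fun b => (P g b : ℂ)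
      map_one' := by
        show ((P g ((1 : B) : G) : ℂˣ) : ℂ) = 1
        rw [Subgroup.coe_one, hP2]; rfl
      map_mul' := fun a b => by rw [Subgroup.coe_mul, m2]; rfl }
  let K : Subgroup G :=
    { carrier := {g | ∀ b ∈ B, P g b = 1}
      one_mem' := fun b _ => hP1 b
      mul_mem' := fun {x y} hx hy b hb => by rw [m1, hx b hb, hy b hb, one_mul]
      inv_mem' := fun {x} hx b hb => by
        have h1 := m1 x x⁻¹ b
        rw [mul_inv_cancel, hP1, hx b hb, one_mul] at h1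
        exact h1.symm }
  have h1 : ∀ b : B, ∑ g : G, (P g b : ℂ) = if (b : G) ∈ Z then (Nat.card G : ℂ) else 0 := by
    intro b
    by_cases hb : (b : G) ∈ Z
    · rw [if_pos hb]
      have : ∀ g : G, (P g b : ℂ) = 1 := fun g => by rw [z1 _ hb]; rfl
      simp only [this, Finset.sum_const, Finset.card_univ, nsmul_eq_mul, mul_one, Nat.card_eq_fintype_card]
    · rw [if_neg hb]
      refine sum_hom_units_eq_zero (L b) fun h => hb (hr _ fun g => ?_)
      have h2 : (P g b : ℂ) = 1 := by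
        have := DFunLike.congr_fun h g
        exact this
      exact Units.ext h2
  have h2 : ∀ g : G, ∑ b : B, (P g b : ℂ) = if g ∈ K then (Nat.card B : ℂ) else 0 := by
    intro g
    by_cases hg : g ∈ K
    · rw [if_pos hg]
      have : ∀ b : B, (P g b : ℂ) = 1 := fun b => by rw [hg _ b.2]; rfl
      simp only [this, Finset.sum_const, Finset.card_univ, nsmul_eq_mul, mul_one, Nat.card_eq_fintype_card]
    · rw [if_neg hg]
      refine sum_hom_units_eq_zero (R g) fun h => hg fun b hb => ?_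
      have h2 : (P g b : ℂ) = 1 := by
        have := DFunLike.congr_fun h ⟨b, hb⟩
        exact this
      exact Units.ext h2
  have h3 : (∑ g : G, ∑ b : B, (P g b : ℂ)) = ∑ b : B, ∑ g : G, (P g b : ℂ) := Finset.sum_comm
  simp only [h1, h2] at h3
  rw [Finset.sum_ite, Finset.sum_ite, Finset.sum_const_zero, Finset.sum_const_zero, add_zero, add_zero, Finset.sum_const,
    Finset.sum_const, nsmul_eq_mul, nsmul_eq_mul] at h3
  have h4 : (Finset.univ.filter fun g : G => g ∈ K).card = Nat.card K := by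
    rw [Nat.card_eq_fintype_card, Fintype.card_subtype]
  have h5 : (Finset.univ.filter fun b : B => (b : G) ∈ Z).card = Nat.card (B ⊓ Z : Subgroup G) := by
    rw [← Fintype.card_subtype, ← Nat.card_eq_fintype_card]
    refine Nat.card_congr
      { toFun := fun b => ⟨b.1.1, b.1.2, b.2⟩
        invFun := fun b => ⟨⟨b.1, b.2.1⟩, b.2.2⟩
        left_inv := fun _ => rfl
        right_inv := fun _ => rfl }
  rw [h4, h5] at h3
  have h6 : Nat.card K * Nat.card B = Nat.card (B ⊓ Z : Subgroup G) * Nat.card G := by exact_mod_cast h3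
  -- `|B| |Z| ≤ |K| |B ∩ Z|`
  have hBK : B ≤ K := fun b hb b' hb' => bb b hb b' hb'
  have hZK : Z ≤ K := fun z hz b _ => z2 z hz b
  have h7 : Nat.card B * Nat.card Z ≤ Nat.card K * Nat.card (B ⊓ Z : Subgroup G) := by
    have e1 : Nat.card (B ⊓ Z : Subgroup G) * Z.relIndex B = Nat.card B := by
      rw [← inf_relIndex_left]
      exact card_rel inf_le_left
    have e2 : Nat.card Z * Z.relIndex K = Nat.card K := card_rel hZK
    have e3 : Z.relIndex B ≤ Z.relIndex K := relIndex_le_of_le_right hBK (rel_ne _ _)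
    calc Nat.card B * Nat.card Z = Nat.card (B ⊓ Z : Subgroup G) * Z.relIndex B * Nat.card Z := by rw [e1]
      _ ≤ Nat.card (B ⊓ Z : Subgroup G) * Z.relIndex K * Nat.card Z :=
        Nat.mul_le_mul_right _ (Nat.mul_le_mul_left _ e3)
      _ = _ := by rw [← e2]; ring
  calc Nat.card B ^ 2 * Nat.card Z = Nat.card B * (Nat.card B * Nat.card Z) := by ring
    _ ≤ Nat.card B * (Nat.card K * Nat.card (B ⊓ Z : Subgroup G)) := Nat.mul_le_mul_left _ h7
    _ = (Nat.card K * Nat.card B) * Nat.card (B ⊓ Z : Subgroup G) := by ring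
    _ = _ := by rw [h6]; ring

namespace Heis

variable {T : Type*} [Group T] {ι : Type*} {Z : Subgroup T} {X : ι → Subgroup T} {S : Finset ι} {o : ι → ι}

theorem Z_le : Z ≤ QQ Z X S := fun _ hz => subset_closure (Or.inl hz)

theorem X_le {i : ι} (hi : i ∈ S) : X i ≤ QQ Z X S := fun _ hz => subset_closure (Or.inr ⟨i, hi, hz⟩)

theorem QQ_le {L : Subgroup T} (hZ : Z ≤ L) (hX : ∀ i ∈ S, X i ≤ L) : QQ Z X S ≤ L :=
  (closure_le _).2 fun _ hg => hg.elim (fun h => hZ h) fun ⟨i, hi, h⟩ => hX i hi h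

variable (H : Heis Z X S o)

include H

theorem zQ {z g : T} (hz : z ∈ Z) (hg : g ∈ QQ Z X S) : z * g = g * z := by
  have h1 : QQ Z X S ≤ centralizer ({z} : Set T) := by
    refine QQ_le (fun w hw => ?_) (fun i hi a ha => ?_)
    · rw [mem_centralizer_iff]
      rintro _ rfl
      exact H.zz _ hz w hw
    · rw [mem_centralizer_iff]
      rintro _ rfl
      exact H.zx _ hz i hi a ha
  exact (mem_centralizer_iff.1 (h1 hg)) z rfl

theorem mul_left {a b g : T} (hb : ⁅b, g⁆ ∈ Z) (ha : a ∈ QQ Z X S) : ⁅a * b, g⁆ = ⁅b, g⁆ * ⁅a, g⁆ := by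
  have h2 : ⁅a * b, g⁆ = a * ⁅b, g⁆ * (g * a⁻¹ * g⁻¹) := by
    simp only [commutatorElement_def]
    group
  rw [h2, ← H.zQ hb ha]
  simp only [commutatorElement_def]
  group

theorem mul_right {a b g : T} (hb : ⁅g, b⁆ ∈ Z) (ha : a ∈ QQ Z X S) : ⁅g, a * b⁆ = ⁅g, a⁆ * ⁅g, b⁆ := by
  have h2 : ⁅g, a * b⁆ = ⁅g, a⁆ * (a * ⁅g, b⁆ * a⁻¹) := by
    simp only [commutatorElement_def]
    group
  rw [h2, ← H.zQ hb ha, mul_inv_cancel_right]

theorem inv_right {a g : T} (ha : ⁅g, a⁆ ∈ Z) (haQ : a ∈ QQ Z X S) : ⁅g, a⁻¹⁆ = ⁅g, a⁆⁻¹ := by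
  have h1 : ⁅g, a⁻¹⁆ = a⁻¹ * ⁅g, a⁆⁻¹ * a := by
    simp only [commutatorElement_def]
    group
  rw [h1, mul_assoc, H.zQ (Z.inv_mem ha) haQ, inv_mul_cancel_left]

theorem com {g h : T} (hg : g ∈ QQ Z X S) (hh : h ∈ QQ Z X S) : ⁅g, h⁆ ∈ Z := by
  have key : ∀ g : T, (∀ i ∈ S, ∀ a ∈ X i, ⁅g, a⁆ ∈ Z) → g ∈ QQ Z X S → ∀ h ∈ QQ Z X S, ⁅g, h⁆ ∈ Z := by
    intro g h1 hg h hh
    have h2 : h ∈ QQ Z X S ∧ ⁅g, h⁆ ∈ Z := by
      induction hh using closure_induction with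
      | mem x hx =>
        refine ⟨subset_closure hx, ?_⟩
        rcases hx with hx | ⟨i, hi, hx⟩
        · rw [com_eq_one (H.zQ hx hg).symm]
          exact one_mem _
        · exact h1 i hi x hx
      | one =>
        rw [commutatorElement_one_right]
        exact ⟨one_mem _, one_mem _⟩
      | mul x y _ _ hx hy => exact ⟨mul_mem hx.1 hy.1, by rw [H.mul_right hy.2 hx.1]; exact mul_mem hx.2 hy.2⟩
      | inv x _ hx => exact ⟨inv_mem hx.1, by rw [H.inv_right hx.2 hx.1]; exact inv_mem hx.2⟩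
    exact h2.2
  have h3 : ∀ i ∈ S, ∀ a ∈ X i, ⁅a, h⁆ ∈ Z := by
    intro i hi a ha
    refine key a (fun j hj b hb => ?_) (X_le hi ha) h hh
    by_cases hji : j = o i
    · subst hji
      exact H.pair i hi a ha b hb
    · rw [com_eq_one (H.comm i hi j hj hji a ha b hb)]
      exact one_mem _
  refine key g (fun i hi a ha => ?_) hg h hh
  have key2 : ∀ i ∈ S, ∀ a ∈ X i, ∀ h ∈ QQ Z X S, ⁅a, h⁆ ∈ Z := by
    intro i hi a ha h hh
    refine key a (fun j hj b hb => ?_) (X_le hi ha) h hh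
    by_cases hji : j = o i
    · subst hji
      exact H.pair i hi a ha b hb
    · rw [com_eq_one (H.comm i hi j hj hji a ha b hb)]
      exact one_mem _
  have h4 := key2 i hi a ha g hg
  rw [← commutatorElement_inv]
  exact inv_mem h4

omit H in
/-- the product of the components -/
def pr (a : ι → T) (l : List ι) : T := (l.map a).prod

omit H in
theorem pr_mem {a : ι → T} {l : List ι} (hl : ∀ i ∈ l, i ∈ S) (ha : ∀ i ∈ S, a i ∈ X i) : pr a l ∈ QQ Z X S := by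
  unfold pr
  apply Subgroup.list_prod_mem
  intro x hx
  obtain ⟨i, hi, rfl⟩ := List.mem_map.1 hx
  exact X_le (hl i hi) (ha i (hl i hi))

theorem o_inj {i j : ι} (hi : i ∈ S) (hj : j ∈ S) (h : o i = o j) : i = j := by
  rw [← H.oo i hi, h, H.oo j hj]

theorem com_pr_not {a : ι → T} (ha : ∀ i ∈ S, a i ∈ X i) {j : ι} (hj : j ∈ S) {h : T} (hh : h ∈ X (o j)) :
    ∀ l : List ι, (∀ i ∈ l, i ∈ S) → j ∉ l → ⁅pr a l, h⁆ = 1 := by
  intro l
  induction l with
  | nil =>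
    intro _ _
    exact commutatorElement_one_left _
  | cons i l ih =>
    intro hl hjl
    have h1 : pr a (i :: l) = a i * pr a l := by simp [pr]
    have h2 := ih (fun k hk => hl k (List.mem_cons_of_mem _ hk)) (fun h => hjl (List.mem_cons_of_mem _ h))
    have hi := hl i List.mem_cons_self
    rw [h1, H.mul_left (by rw [h2]; exact one_mem _) (X_le hi (ha i hi)), h2, one_mul]
    apply com_eq_one
    refine H.comm i hi (o j) (H.mem j hj) (fun h => hjl ?_) _ (ha i hi) _ hh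
    rw [H.o_inj hj hi h]
    exact List.mem_cons_self

theorem com_pr {a : ι → T} (ha : ∀ i ∈ S, a i ∈ X i) {j : ι} (hj : j ∈ S) {h : T} (hh : h ∈ X (o j)) :
    ∀ l : List ι, (∀ i ∈ l, i ∈ S) → l.Nodup → j ∈ l → ⁅pr a l, h⁆ = ⁅a j, h⁆ := by
  intro l
  induction l with
  | nil => intro _ _ h; exact absurd h (List.not_mem_nil)
  | cons i l ih =>
    intro hl hnd hjl
    have h1 : pr a (i :: l) = a i * pr a l := by simp [pr]
    have hi := hl i List.mem_cons_self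
    have hnd' := List.nodup_cons.1 hnd
    have hl' : ∀ k ∈ l, k ∈ S := fun k hk => hl k (List.mem_cons_of_mem _ hk)
    by_cases hji : j = i
    · subst hji
      have h2 := H.com_pr_not ha hj hh l hl' hnd'.1
      rw [h1, H.mul_left (by rw [h2]; exact one_mem _) (X_le hi (ha j hi)), h2, one_mul]
    · have hjl' : j ∈ l := (List.mem_cons.1 hjl).resolve_left hji
      have h2 := ih hl' hnd'.2 hjl'
      have h3 : ⁅a i, h⁆ = 1 := by
        apply com_eq_one
        exact H.comm i hi (o j) (H.mem j hj) (fun h => hji (H.o_inj hj hi h)) _ (ha i hi) _ hh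
      rw [h1, H.mul_left (by rw [h2]; exact H.pair j hj _ (ha j hj) _ hh) (X_le hi (ha i hi)), h2, h3, mul_one]

theorem move [DecidableEq ι] {a : ι → T} (ha : ∀ i ∈ S, a i ∈ X i) {j : ι} (hj : j ∈ S) {x : T} (hx : x ∈ X j) :
    ∀ l : List ι, (∀ i ∈ l, i ∈ S) → l.Nodup → j ∈ l →
      ∃ z ∈ Z, x * pr a l = z * pr (Function.update a j (x * a j)) l := by
  intro l
  induction l with
  | nil => intro _ _ h; exact absurd h (List.not_mem_nil)
  | cons i l ih =>
    intro hl hnd hjl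
    have h1 : ∀ a : ι → T, pr a (i :: l) = a i * pr a l := fun a => by simp [pr]
    have hi := hl i List.mem_cons_self
    have hnd' := List.nodup_cons.1 hnd
    have hl' : ∀ k ∈ l, k ∈ S := fun k hk => hl k (List.mem_cons_of_mem _ hk)
    rw [h1, h1]
    by_cases hji : j = i
    · subst hji
      refine ⟨1, one_mem _, ?_⟩
      have h2 : pr (Function.update a j (x * a j)) l = pr a l := by
        unfold pr
        congr 1
        apply List.map_congr_left
        intro k hk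
        rw [Function.update_of_ne]
        rintro rfl
        exact hnd'.1 hk
      rw [h2, Function.update_self, one_mul, mul_assoc]
    · have hjl' : j ∈ l := (List.mem_cons.1 hjl).resolve_left hji
      obtain ⟨z, hz, h2⟩ := ih hl' hnd'.2 hjl'
      refine ⟨⁅x, a i⁆ * z, mul_mem (H.com (X_le hj hx) (X_le hi (ha i hi))) hz, ?_⟩
      rw [Function.update_of_ne (Ne.symm hji)]
      calc x * (a i * pr a l) = ⁅x, a i⁆ * (a i * (x * pr a l)) := by
            simp only [commutatorElement_def]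
            group
        _ = ⁅x, a i⁆ * (a i * z * pr (Function.update a j (x * a j)) l) := by rw [h2, mul_assoc]
        _ = _ := by
            rw [← H.zQ hz (X_le hi (ha i hi))]
            group

/-- the normal form -/
theorem nf {g : T} (hg : g ∈ QQ Z X S) : ∃ a : ι → T, (∀ i ∈ S, a i ∈ X i) ∧ ∃ z ∈ Z, g = z * pr a S.toList := by
  classical
  induction hg using closure_induction_left with
  | one => exact ⟨fun _ => 1, fun _ _ => one_mem _, 1, one_mem _, by simp [pr]⟩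
  | mul_left x hx y hy ih =>
    obtain ⟨a, ha, z, hz, rfl⟩ := ih
    rcases hx with hx | ⟨j, hj, hx⟩
    · exact ⟨a, ha, x * z, mul_mem hx hz, by rw [mul_assoc]⟩
    · obtain ⟨z', hz', h⟩ := H.move ha hj hx S.toList (fun i hi => Finset.mem_toList.1 hi) S.nodup_toList
        (Finset.mem_toList.2 hj)
      refine ⟨Function.update a j (x * a j), ?_, z * z', mul_mem hz hz', ?_⟩
      · intro i hi
        by_cases hij : i = j
        · subst hij
          rw [Function.update_self]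
          exact mul_mem hx (ha i hi)
        · rw [Function.update_of_ne hij]
          exact ha i hi
      · rw [← mul_assoc, ← H.zQ hz (X_le hj hx), mul_assoc, h, mul_assoc]
  | inv_mul_cancel x hx y hy ih =>
    obtain ⟨a, ha, z, hz, rfl⟩ := ih
    rcases hx with hx | ⟨j, hj, hx⟩
    · exact ⟨a, ha, x⁻¹ * z, mul_mem (inv_mem hx) hz, by rw [mul_assoc]⟩
    · obtain ⟨z', hz', h⟩ := H.move ha hj (inv_mem hx) S.toList (fun i hi => Finset.mem_toList.1 hi) S.nodup_toList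
        (Finset.mem_toList.2 hj)
      refine ⟨Function.update a j (x⁻¹ * a j), ?_, z * z', mul_mem hz hz', ?_⟩
      · intro i hi
        by_cases hij : i = j
        · subst hij
          rw [Function.update_self]
          exact mul_mem (inv_mem hx) (ha i hi)
        · rw [Function.update_of_ne hij]
          exact ha i hi
      · rw [← mul_assoc, ← H.zQ hz (inv_mem (X_le hj hx)), mul_assoc, h, mul_assoc]

theorem surjQ {g : T} (hg : g ∈ QQ Z X S) (hgZ : g ∉ Z) {z : T} (hz : z ∈ Z) : ∃ h ∈ QQ Z X S, ⁅g, h⁆ = z := by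
  classical
  obtain ⟨a, ha, z', hz', rfl⟩ := H.nf hg
  have h1 : ∃ j ∈ S, a j ≠ 1 := by
    by_contra hcon
    push Not at hcon
    apply hgZ
    have h2 : pr a S.toList = 1 := by
      unfold pr
      apply List.prod_eq_one
      intro x hx
      obtain ⟨i, hi, rfl⟩ := List.mem_map.1 hx
      exact hcon i (Finset.mem_toList.1 hi)
    rw [h2, mul_one]
    exact hz'
  obtain ⟨j, hj, hj1⟩ := h1
  obtain ⟨b, hb, hab⟩ := H.surj j hj (a j) (ha j hj) hj1 z hz
  refine ⟨b, X_le (H.mem j hj) hb, ?_⟩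
  have h2 := H.com_pr ha hj hb S.toList (fun i hi => Finset.mem_toList.1 hi) S.nodup_toList (Finset.mem_toList.2 hj)
  have h3 : ⁅pr a S.toList, b⁆ ∈ Z := by
    rw [h2, hab]
    exact hz
  rw [H.mul_left h3 (Z_le hz'), h2, hab, com_eq_one (H.zQ hz' (X_le (H.mem j hj) hb)), mul_one]

/-- the order of `Q` -/
theorem card_ge [Finite T] (hZ : Z ≠ ⊥) : Nat.card Z * ∏ i ∈ S, Nat.card (X i) ≤ Nat.card (QQ Z X S) := by
  classical
  obtain ⟨⟨z₀, hz₀⟩, hz₁⟩ := Subgroup.ne_bot_iff_exists_ne_one.1 hZ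
  have hz₁' : z₀ ≠ 1 := fun h => hz₁ (Subtype.ext h)
  let ex : ((i : S) → X i) → ι → T := fun a i => if h : i ∈ S then (a ⟨i, h⟩ : T) else 1
  have hex : ∀ a, ∀ i ∈ S, ex a i ∈ X i := by
    intro a i hi
    simp only [ex, dif_pos hi]
    exact (a ⟨i, hi⟩).2
  let f : Z × ((i : S) → X i) → QQ Z X S := fun p =>
    ⟨p.1 * pr (ex p.2) S.toList, mul_mem (Z_le p.1.2) (pr_mem (fun i hi => Finset.mem_toList.1 hi) (hex p.2))⟩
  have hf : Function.Injective f := by
    rintro ⟨z, a⟩ ⟨w, b⟩ hab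
    have h1 : (z : T) * pr (ex a) S.toList = w * pr (ex b) S.toList := congrArg Subtype.val hab
    have h2 : ∀ j (hj : j ∈ S), a ⟨j, hj⟩ = b ⟨j, hj⟩ := by
      intro j hj
      have key : ∀ (z : Z) (a : (i : S) → X i), ∀ h ∈ X (o j), ⁅(z : T) * pr (ex a) S.toList, h⁆ =
          ⁅(a ⟨j, hj⟩ : T), h⁆ := by
        intro z a h hh
        have h3 := H.com_pr (hex a) hj hh S.toList (fun i hi => Finset.mem_toList.1 hi) S.nodup_toList
          (Finset.mem_toList.2 hj)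
        have h4 : ex a j = a ⟨j, hj⟩ := dif_pos hj
        rw [H.mul_left (by rw [h3]; exact H.pair j hj _ (hex a j hj) _ hh) (Z_le z.2), h3,
          com_eq_one (H.zQ z.2 (X_le (H.mem j hj) hh)), mul_one, h4]
      have h5 : ∀ h ∈ X (o j), ⁅(a ⟨j, hj⟩ : T), h⁆ = ⁅(b ⟨j, hj⟩ : T), h⁆ := by
        intro h hh
        rw [← key z a h hh, ← key w b h hh, h1]
      by_contra hne
      have h6 : (b ⟨j, hj⟩ : T)⁻¹ * a ⟨j, hj⟩ ≠ 1 := by
        intro h7
        apply hne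
        apply Subtype.ext
        exact (inv_mul_eq_one.1 h7).symm
      obtain ⟨h, hh, h8⟩ := H.surj j hj _ (mul_mem (inv_mem (b ⟨j, hj⟩).2) (a ⟨j, hj⟩).2) h6 z₀ hz₀
      have h9 := H.pair j hj _ (a ⟨j, hj⟩).2 h hh
      rw [H.mul_left h9 (X_le hj (inv_mem (b ⟨j, hj⟩).2)), h5 h hh] at h8
      have h10 : ⁅(b ⟨j, hj⟩ : T), h⁆ * ⁅(b ⟨j, hj⟩ : T)⁻¹, h⁆ = 1 := by
        rw [← H.mul_left (a := (b ⟨j, hj⟩ : T)⁻¹) (H.pair j hj _ (b ⟨j, hj⟩).2 h hh) (X_le hj (inv_mem (b ⟨j, hj⟩).2)),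
          inv_mul_cancel, commutatorElement_one_left]
      rw [h10] at h8
      exact hz₁' h8.symm
    have h3 : a = b := funext fun ⟨j, hj⟩ => h2 j hj
    subst h3
    have h4 : z = w := Subtype.ext (mul_right_cancel h1)
    rw [h4]
  have h1 := Nat.card_le_card_of_injective f hf
  rw [Nat.card_prod, Nat.card_pi] at h1
  have h2 : ∏ i : S, Nat.card (X i) = ∏ i ∈ S, Nat.card (X i) := by
    rw [← Finset.prod_coe_sort S (fun i => Nat.card (X i))]
  rwa [h2] at h1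

/-- **isotropic subgroups** -/
theorem iso [Finite T] (A : Subgroup T) (hA : ¬ Z ≤ A) :
    Nat.card (A ⊓ QQ Z X S : Subgroup T) ^ 2 * Nat.card Z ≤ Nat.card (A ⊓ Z : Subgroup T) ^ 2 * Nat.card (QQ Z X S) := by
  classical
  obtain ⟨z₀, hz₀, hz₀A⟩ := SetLike.not_le_iff_exists.1 hA
  let i1 : CommGroup Z := { (inferInstance : Group Z) with
    mul_comm := fun a b => Subtype.ext (H.zz a a.2 b b.2) }
  obtain ⟨θ, hθ, hθA⟩ := exists_char (A.subgroupOf Z) (z := (⟨z₀, hz₀⟩ : Z)) (fun h => hz₀A h)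
  let G := QQ Z X S
  let P : G → G → ℂˣ := fun g h => θ ⟨⁅(g : T), (h : T)⁆, H.com g.2 h.2⟩
  have h1 := iso_abs (G := G) (Z.subgroupOf G) (A.subgroupOf G) P ?_ ?_ ?_ ?_ ?_ ?_
  · have e1 : Nat.card (A.subgroupOf G) = Nat.card (A ⊓ G : Subgroup T) := by
      rw [← inf_subgroupOf_right, Nat.card_congr (subgroupOfEquivOfLe (inf_le_right : A ⊓ G ≤ G)).toEquiv]
    have e2 : Nat.card (Z.subgroupOf G) = Nat.card Z :=
      Nat.card_congr (subgroupOfEquivOfLe (Z_le : Z ≤ G)).toEquiv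
    have e3 : Nat.card (A.subgroupOf G ⊓ Z.subgroupOf G : Subgroup G) = Nat.card (A ⊓ Z : Subgroup T) := by
      have h2 : A.subgroupOf G ⊓ Z.subgroupOf G = (A ⊓ Z).subgroupOf G := rfl
      rw [h2]
      exact Nat.card_congr (subgroupOfEquivOfLe (inf_le_right.trans Z_le : A ⊓ Z ≤ G)).toEquiv
    rw [e1, e2, e3] at h1
    exact h1
  · intro g g' h
    show θ _ = θ _ * θ _
    rw [mul_comm, ← map_mul]
    congr 1
    apply Subtype.ext
    exact H.mul_left (H.com g'.2 h.2) g.2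
  · intro g h h'
    show θ _ = θ _ * θ _
    rw [← map_mul]
    congr 1
    apply Subtype.ext
    exact H.mul_right (H.com g.2 h'.2) h.2
  · intro b hb
    by_contra hbZ
    obtain ⟨h, hh, h2⟩ := H.surjQ b.2 (fun h => hbZ h) (inv_mem hz₀)
    have h3 := hb ⟨h, hh⟩
    apply hθ
    have h4 : (⟨⁅h, (b : T)⁆, H.com hh b.2⟩ : Z) = ⟨z₀, hz₀⟩ := by
      apply Subtype.ext
      show ⁅h, (b : T)⁆ = z₀
      rw [← commutatorElement_inv, h2, inv_inv]
    rw [← h4]
    exact h3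
  · intro z hz g
    show θ _ = 1
    have h4 : (⟨⁅(g : T), (z : T)⁆, H.com g.2 z.2⟩ : Z) = 1 :=
      Subtype.ext (com_eq_one (H.zQ hz g.2).symm)
    rw [h4, map_one]
  · intro z hz g
    show θ _ = 1
    have h4 : (⟨⁅(z : T), (g : T)⁆, H.com z.2 g.2⟩ : Z) = 1 :=
      Subtype.ext (com_eq_one (H.zQ hz g.2))
    rw [h4, map_one]
  · intro b hb b' hb'
    show θ _ = 1
    apply hθA
    show ⁅(b : T), (b' : T)⁆ ∈ A
    have hb1 : (b : T) ∈ A := hb
    have hb2 : (b' : T) ∈ A := hb'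
    rw [commutatorElement_def]
    exact mul_mem (mul_mem (mul_mem hb1 hb2) (inv_mem hb1)) (inv_mem hb2)

/-- **the index of the intersection with the Heisenberg group** -/
theorem rel [Finite T] (A : Subgroup T) (hA : ¬ Z ≤ A) :
    Nat.card (QQ Z X S) * Nat.card Z ≤ A.relIndex (QQ Z X S) ^ 2 * Nat.card (A ⊓ Z : Subgroup T) ^ 2 := by
  have h1 := H.iso A hA
  have h2 : Nat.card (A ⊓ QQ Z X S : Subgroup T) * A.relIndex (QQ Z X S) = Nat.card (QQ Z X S) := by
    rw [← inf_relIndex_right]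
    exact card_rel inf_le_right
  have hpos : 0 < Nat.card (QQ Z X S) := Nat.card_pos
  refine Nat.le_of_mul_le_mul_left (c := Nat.card (QQ Z X S)) ?_ hpos
  calc Nat.card (QQ Z X S) * (Nat.card (QQ Z X S) * Nat.card Z)
      = A.relIndex (QQ Z X S) ^ 2 * (Nat.card (A ⊓ QQ Z X S : Subgroup T) ^ 2 * Nat.card Z) := by
        rw [← h2]; ring
    _ ≤ A.relIndex (QQ Z X S) ^ 2 * (Nat.card (A ⊓ Z : Subgroup T) ^ 2 * Nat.card (QQ Z X S)) :=
        Nat.mul_le_mul_left _ h1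
    _ = _ := by ring

/-- `|Q| |Z| ≥ q^(2d+2)`, `A ∩ Z = 1`: the index is at least `q^(d+1)` -/
theorem rel_bot [Finite T] (A : Subgroup T) (hZ : Z ≠ ⊥) (hA : A ⊓ Z = ⊥) {m : ℕ}
    (hm : m ^ 2 ≤ Nat.card (QQ Z X S) * Nat.card Z) : m ≤ A.relIndex (QQ Z X S) := by
  have h1 := H.rel A (fun h => hZ (by rw [← hA, inf_eq_right.2 h]))
  rw [hA, card_bot, one_pow, mul_one] at h1
  exact (Nat.pow_le_pow_iff_left two_ne_zero).1 (hm.trans h1)

/-- `|Q| |Z| ≥ (m |Z|)²`, `Z` a `p`-group, `|Q : Q ∩ A| < p m`: `Z ≤ A` -/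
theorem le_of_rel_p [Finite T] (A : Subgroup T) {m p : ℕ} (hp : p.Prime) (hZp : IsPGroup p Z)
    (hm : (m * Nat.card Z) ^ 2 ≤ Nat.card (QQ Z X S) * Nat.card Z)
    (h : A.relIndex (QQ Z X S) < p * m) : Z ≤ A := by
  by_contra hA
  have h1 := H.rel A hA
  rw [← mul_pow] at h1
  have h2 : m * Nat.card Z ≤ A.relIndex (QQ Z X S) * Nat.card (A ⊓ Z : Subgroup T) :=
    (Nat.pow_le_pow_iff_left two_ne_zero).1 (hm.trans h1)
  have h3 : Nat.card (A ⊓ Z : Subgroup T) * (A ⊓ Z).relIndex Z = Nat.card Z := card_rel inf_le_right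
  have h4 : p ≤ (A ⊓ Z).relIndex Z := by
    have h6 : (A ⊓ Z).relIndex Z ≠ 1 := by
      rw [Ne, relIndex_eq_one, le_inf_iff]
      exact fun h => hA h.1
    have := Fact.mk hp
    obtain ⟨k, hk⟩ := IsPGroup.iff_card.1 hZp
    have h7 : (A ⊓ Z).relIndex Z ∣ p ^ k := by
      rw [← hk, ← h3]
      exact dvd_mul_left _ _
    obtain ⟨j, -, hj⟩ := (Nat.dvd_prime_pow hp).1 h7
    rw [hj]
    rcases Nat.eq_zero_or_pos j with rfl | hj0
    · exact absurd hj h6
    · exact Nat.le_self_pow hj0.ne' p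
  have hpos : 0 < Nat.card (A ⊓ Z : Subgroup T) := Nat.card_pos
  have h7 : A.relIndex (QQ Z X S) * Nat.card (A ⊓ Z : Subgroup T) < p * m * Nat.card (A ⊓ Z : Subgroup T) :=
    Nat.mul_lt_mul_of_pos_right h hpos
  have h8 : p * m * Nat.card (A ⊓ Z : Subgroup T) ≤ m * Nat.card Z := by
    rw [← h3]
    calc p * m * Nat.card (A ⊓ Z : Subgroup T) = m * (Nat.card (A ⊓ Z : Subgroup T) * p) := by ring
      _ ≤ _ := Nat.mul_le_mul_left _ (Nat.mul_le_mul_left _ h4)
  omega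

end Heis

/-- The subgroups of `L` without elements of `Zs` have index at least `c`. -/
def Phi {T : Type*} [Group T] (L : Subgroup T) (Zs : Set T) (c : ℕ) : Prop :=
  ∀ Y ≤ L, (∀ z ∈ Zs, z ∉ Y) → c ≤ Y.relIndex L

section Phi

variable {T : Type*} [Group T] [Finite T] {L L' : Subgroup T} {Zs : Set T} {c : ℕ}

/-- one half of the induction step -/
theorem Phi.half {Y Q : Subgroup T} {m : ℕ} (h : Phi L' Zs c) (hL' : L' ≤ L) (hQL : Q ≤ L)
    (hQ : Odd (Nat.card Q)) (hn : ∀ l ∈ L', ∀ u ∈ Q, l * u * l⁻¹ ∈ Q) (hZ2 : ∀ z ∈ Zs, z * z = 1)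
    (hZc : ∀ g ∈ L, ∀ z ∈ Zs, g * z * g⁻¹ ∈ Zs) (hY : ∀ z ∈ Zs, z ∉ Y) (hm : m ≤ Y.relIndex Q) :
    m * c ≤ Y.relIndex L := by
  have h1 := Cfsg.Agent.H847.IF.abs_index (G := L) (L := L') (Subgroup.inclusion hL') (Q.subgroupOf L) (Y.subgroupOf L)
    (by rwa [Nat.card_congr (subgroupOfEquivOfLe hQL).toEquiv])
    (fun l u hu => hn l l.2 u hu) {g : L | (g : T) ∈ Zs} (fun z hz => Subtype.ext (hZ2 _ hz))
    (fun g z hz => hZc g g.2 z hz) (fun z hz hzY => hY _ hz hzY) c (fun W hW => by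
      have h2 := h (W.map L'.subtype) (fun x hx => by
        obtain ⟨w, _, rfl⟩ := hx
        exact w.2) (fun z hz hzW => by
        obtain ⟨w, hw, rfl⟩ := hzW
        exact hW w hw hz)
      refine h2.trans (le_of_eq ?_)
      rw [relIndex]
      congr 1
      ext x
      rw [mem_subgroupOf]
      constructor
      · rintro ⟨w, hw, hwx⟩
        have : w = x := Subtype.ext hwx
        rwa [← this]
      · intro hx
        exact ⟨x, hx, rfl⟩)
  have e1 : Nat.card (Q.subgroupOf L) = Nat.card Q := Nat.card_congr (subgroupOfEquivOfLe hQL).toEquiv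
  have e2 : Nat.card (Y.subgroupOf L ⊓ Q.subgroupOf L : Subgroup L) = Nat.card (Y ⊓ Q : Subgroup T) := by
    have h2 : Y.subgroupOf L ⊓ Q.subgroupOf L = (Y ⊓ Q).subgroupOf L := rfl
    rw [h2]
    exact Nat.card_congr (subgroupOfEquivOfLe (inf_le_right.trans hQL : Y ⊓ Q ≤ L)).toEquiv
  have e3 : Nat.card (Y ⊓ Q : Subgroup T) * Y.relIndex Q = Nat.card Q := by
    rw [← inf_relIndex_right]
    exact card_rel inf_le_right
  rw [e1, e2] at h1
  have hpos : 0 < Nat.card (Y ⊓ Q : Subgroup T) := Nat.card_pos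
  refine Nat.le_of_mul_le_mul_left (c := Nat.card (Y ⊓ Q : Subgroup T)) ?_ hpos
  calc Nat.card (Y ⊓ Q : Subgroup T) * (m * c) ≤ Nat.card (Y ⊓ Q : Subgroup T) * (Y.relIndex Q * c) :=
        Nat.mul_le_mul_left _ (Nat.mul_le_mul_right _ hm)
    _ = Nat.card Q * c := by rw [← e3]; ring
    _ ≤ _ := h1

/-- **The induction step.** -/
theorem Phi.step {ι ι' : Type*} {Z₁ Z₂ : Subgroup T} {X₁ : ι → Subgroup T} {X₂ : ι' → Subgroup T} {S₁ : Finset ι}
    {S₂ : Finset ι'} {o₁ : ι → ι} {o₂ : ι' → ι'} (H₁ : Heis Z₁ X₁ S₁ o₁) (H₂ : Heis Z₂ X₂ S₂ o₂) {m : ℕ}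
    (h : Phi L' Zs c) (hL' : L' ≤ L) (hQ₁ : QQ Z₁ X₁ S₁ ≤ L) (hQ₂ : QQ Z₂ X₂ S₂ ≤ L)
    (ho₁ : Odd (Nat.card (QQ Z₁ X₁ S₁))) (ho₂ : Odd (Nat.card (QQ Z₂ X₂ S₂)))
    (hn₁ : ∀ l ∈ L', ∀ u ∈ QQ Z₁ X₁ S₁, l * u * l⁻¹ ∈ QQ Z₁ X₁ S₁)
    (hn₂ : ∀ l ∈ L', ∀ u ∈ QQ Z₂ X₂ S₂, l * u * l⁻¹ ∈ QQ Z₂ X₂ S₂)
    (hm₁ : m ^ 2 ≤ Nat.card (QQ Z₁ X₁ S₁) * Nat.card Z₁) (hm₂ : m ^ 2 ≤ Nat.card (QQ Z₂ X₂ S₂) * Nat.card Z₂)
    (hZ₁ : Z₁ ≠ ⊥) (hZ₂ : Z₂ ≠ ⊥) (hZ2 : ∀ z ∈ Zs, z * z = 1) (hZc : ∀ g ∈ L, ∀ z ∈ Zs, g * z * g⁻¹ ∈ Zs)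
    (hop : ∀ u ∈ Z₁, ∀ v ∈ Z₂, u ≠ 1 → v ≠ 1 → ∃ z ∈ Zs, z ∈ closure {u, v}) : Phi L Zs (m * c) := by
  intro Y hYL hY
  by_cases h1 : Y ⊓ Z₁ = ⊥
  · exact h.half hL' hQ₁ ho₁ hn₁ hZ2 hZc hY (H₁.rel_bot Y hZ₁ h1 hm₁)
  by_cases h2 : Y ⊓ Z₂ = ⊥
  · exact h.half hL' hQ₂ ho₂ hn₂ hZ2 hZc hY (H₂.rel_bot Y hZ₂ h2 hm₂)
  exfalso
  obtain ⟨⟨u, hu⟩, hu1⟩ := Subgroup.ne_bot_iff_exists_ne_one.1 h1
  obtain ⟨⟨v, hv⟩, hv1⟩ := Subgroup.ne_bot_iff_exists_ne_one.1 h2
  obtain ⟨z, hz, hzc⟩ := hop u hu.2 v hv.2 (fun h => hu1 (Subtype.ext h)) (fun h => hv1 (Subtype.ext h))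
  refine hY z hz (((closure_le _).2 ?_) hzc)
  rintro x (rfl | rfl)
  · exact hu.1
  · exact hv.1

/-- the start of the induction -/
theorem Phi.start {Z₁ Z₂ : Subgroup T} (hZ₁ : Z₁ ≤ L) (hZ₂ : Z₂ ≤ L) (hc₁ : c ≤ Nat.card Z₁) (hc₂ : c ≤ Nat.card Z₂)
    (hop : ∀ u ∈ Z₁, ∀ v ∈ Z₂, u ≠ 1 → v ≠ 1 → ∃ z ∈ Zs, z ∈ closure {u, v}) : Phi L Zs c := by
  intro Y hYL hY
  have key : ∀ Z : Subgroup T, Z ≤ L → Y ⊓ Z = ⊥ → Nat.card Z ≤ Y.relIndex L := by
    intro Z hZ h
    have h1 : Y.relIndex Z ≤ Y.relIndex L := relIndex_le_of_le_right hZ (rel_ne _ _)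
    rwa [← inf_relIndex_right, h, relIndex_bot_left] at h1
  by_cases h1 : Y ⊓ Z₁ = ⊥
  · exact hc₁.trans (key Z₁ hZ₁ h1)
  by_cases h2 : Y ⊓ Z₂ = ⊥
  · exact hc₂.trans (key Z₂ hZ₂ h2)
  exfalso
  obtain ⟨⟨u, hu⟩, hu1⟩ := Subgroup.ne_bot_iff_exists_ne_one.1 h1
  obtain ⟨⟨v, hv⟩, hv1⟩ := Subgroup.ne_bot_iff_exists_ne_one.1 h2
  obtain ⟨z, hz, hzc⟩ := hop u hu.2 v hv.2 (fun h => hu1 (Subtype.ext h)) (fun h => hv1 (Subtype.ext h))
  refine hY z hz (((closure_le _).2 ?_) hzc)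
  rintro x (rfl | rfl)
  · exact hu.1
  · exact hv.1

end Phi

end Cfsg.Agent.H203.IF

private theorem dce_c5a78e55b948 : _root_.True := by
  try have : _root_.True := by simp only [_root_.Cfsg.Agent.H203.IF.Heis.pr.eq_1]
  exact _root_.True.intro
end
end
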